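import Groth.Prelude.Def_RelSpec
import Groth.Prelude.Def_AffAlg
import Groth.Agent.EGAProj74.RelSpecGamma
import Mathlib

/-! The canonical morphism to the relative spectrum of the direct image algebra. -/

set_option autoImplicit false
set_option maxHeartbeats 1000000
set_option backward.isDefEq.respectTransparency false

universe u

open CategoryTheory CategoryTheory.Limits AlgebraicGeometry TopologicalSpace Opposite

noncomputable section

namespace Groth.Agent.QAff94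

variable {X S : Scheme.{u}} (f : X ⟶ S) [QuasiCompact f] [QuasiSeparated f]

local notation "𝒜" => RelSpec.QCAlg.directImage f

theorem chart_res {U V : S.AffineZariskiSite} (i : U ⟶ V) :
    X.homOfLE (f.preimage_mono (Scheme.AffineZariskiSite.toOpens_mono i.le)) ≫
        (f ⁻¹ᵁ V.1).toSpecΓ ≫ (RelSpec.QCAlg.directImage f).ι V.1 V.2 =
      (f ⁻¹ᵁ U.1).toSpecΓ ≫ (RelSpec.QCAlg.directImage f).ι U.1 U.2 := by
  rw [← (RelSpec.QCAlg.directImage f).ι_res i, ← Scheme.Opens.toSpecΓ_SpecMap_presheaf_map_assoc]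
  rfl

/-- The canonical morphism. -/
def toSpec : X ⟶ (RelSpec.QCAlg.directImage f).spec :=
  Scheme.OpenCover.glueMorphismsOfLocallyDirected
    ((Scheme.AffineZariskiSite.directedCover S).pullback₁ f)
    (fun U => (pullbackRestrictIsoRestrict f _).hom ≫ (f ⁻¹ᵁ U.1).toSpecΓ ≫ (RelSpec.QCAlg.directImage f).ι U.1 U.2)
    fun {U V : S.AffineZariskiSite} i => by
      have : (pullbackRestrictIsoRestrict f U.1).inv ≫
          Scheme.Cover.trans ((Scheme.AffineZariskiSite.directedCover S).pullback₁ f) i ≫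
          (pullbackRestrictIsoRestrict f V.1).hom = X.homOfLE
            (f.preimage_mono (Scheme.AffineZariskiSite.toOpens_mono i.1.1)) := by
        rw [← cancel_mono (Scheme.Opens.ι _)]
        simp +instances [Scheme.Cover.trans, Scheme.Cover.locallyDirectedPullbackCover]
      rw [← Iso.inv_comp_eq, reassoc_of% this]
      exact chart_res f i

theorem ι_toSpec (U : S.Opens) (hU : IsAffineOpen U) :
    (f ⁻¹ᵁ U).ι ≫ toSpec f = (f ⁻¹ᵁ U).toSpecΓ ≫ (RelSpec.QCAlg.directImage f).ι U hU := by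
  rw [← cancel_epi (pullbackRestrictIsoRestrict f U).hom, ← Category.assoc]
  trans ((Scheme.AffineZariskiSite.directedCover S).pullback₁ f).f ⟨U, hU⟩ ≫ toSpec f
  · congr 1; simp; rfl
  delta toSpec
  generalize_proofs
  exact Scheme.OpenCover.map_glueMorphismsOfLocallyDirected _ _ (by assumption) _

@[reassoc]
theorem toSpec_π : toSpec f ≫ (RelSpec.QCAlg.directImage f).π = f := by
  refine Scheme.Cover.hom_ext (X.openCoverOfIsOpenCover _
    (.comap (iSup_affineOpens_eq_top S) f.base.1)) _ _ fun U ↦ ?_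
  show (f ⁻¹ᵁ U.1).ι ≫ toSpec f ≫ _ = (f ⁻¹ᵁ U.1).ι ≫ f
  rw [← Category.assoc, ι_toSpec f U.1 U.2, Category.assoc, RelSpec.QCAlg.ι_π]
  change (f ⁻¹ᵁ U.1).toSpecΓ ≫ Spec.map (f.app _) ≫ U.2.fromSpec = _
  simp

theorem preimage_π (U : S.Opens) :
    toSpec f ⁻¹ᵁ ((RelSpec.QCAlg.directImage f).π ⁻¹ᵁ U) = f ⁻¹ᵁ U := by
  rw [← Scheme.Hom.comp_preimage, toSpec_π]

theorem isOpenImmersion_toSpec
    (h : ∀ U : S.Opens, IsAffineOpen U → Scheme.IsQuasiAffine (f ⁻¹ᵁ U : Scheme.{u})) :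
    IsOpenImmersion (toSpec f) := by
  let A := RelSpec.QCAlg.directImage f
  have hcov : (⨆ U : S.affineOpens, A.π ⁻¹ᵁ U.1) = ⊤ := by
    rw [← Scheme.Hom.preimage_iSup, iSup_affineOpens_eq_top]
    rfl
  refine (IsZariskiLocalAtTarget.iff_of_iSup_eq_top _ hcov).2 fun U => ?_
  haveI := h U.1 U.2
  haveI : IsOpenImmersion (f ⁻¹ᵁ U.1).toSpecΓ := by
    rw [Scheme.Opens.toSpecΓ]; infer_instance
  haveI : IsOpenImmersion ((toSpec f ∣_ (A.π ⁻¹ᵁ U.1)) ≫ (A.π ⁻¹ᵁ U.1).ι) := by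
    rw [morphismRestrict_ι]
    have e := preimage_π f U.1
    rw [← X.isoOfEq_hom_ι e]
    haveI : IsOpenImmersion ((f ⁻¹ᵁ U.1).ι ≫ toSpec f) := by rw [ι_toSpec f U.1 U.2]; infer_instance
    rw [Category.assoc]
    infer_instance
  exact IsOpenImmersion.of_comp _ (A.π ⁻¹ᵁ U.1).ι

theorem gammaMap_eq :
    (RelSpec.QCAlg.directImage f).gammaMap =
      AffAlg.algHom (RelSpec.QCAlg.directImage f).π f (toSpec f) (toSpec_π f) := by
  let A := RelSpec.QCAlg.directImage f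
  apply (Functor.IsCoverDense.restrictHomEquivHom (G := Scheme.AffineZariskiSite.toOpensFunctor S)
    (K := Opens.grothendieckTopology S) (ℱ := A.π.base _* A.spec.presheaf)
    (ℱ' := (⟨A.presheaf, A.isSheaf⟩ : TopCat.Sheaf CommRingCat.{u} S.carrier))).symm.injective
  ext U : 2
  show A.gammaMap.app (op U.unop.1) = (AffAlg.algHom A.π f (toSpec f) (toSpec_π f)).app (op U.unop.1)
  rw [A.gammaMap_app U.unop.1 U.unop.2]
  generalize U.unop.1 = V, U.unop.2 = hV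
  have hle : f ⁻¹ᵁ V ≤ toSpec f ⁻¹ᵁ (A.π ⁻¹ᵁ V) := (preimage_π f V).ge
  have e1 : (AffAlg.algHom A.π f (toSpec f) (toSpec_π f)).app (op V) =
      (toSpec f).appLE (A.π ⁻¹ᵁ V) (f ⁻¹ᵁ V) hle := by
    simp only [AffAlg.algHom, Scheme.Hom.appLE]
    rw [Subsingleton.elim (homOfLE hle) (eqToHom (preimage_π f V).symm), eqToHom_op, eqToHom_map]
    erw [NatTrans.comp_app, eqToHom_app]
    rfl
  rw [e1]
  have htop : (f ⁻¹ᵁ V).ι ''ᵁ (⊤ : (f ⁻¹ᵁ V : Scheme.{u}).Opens) = f ⁻¹ᵁ V := (f ⁻¹ᵁ V).ι_image_top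
  have hc := Scheme.Hom.congr_app (ι_toSpec f V hV) (A.π ⁻¹ᵁ V)
  have key : (toSpec f).appLE (A.π ⁻¹ᵁ V) (f ⁻¹ᵁ V) hle ≫ (f ⁻¹ᵁ V).topIso.inv =
      A.gammaAff V hV ≫ (f ⁻¹ᵁ V).topIso.inv := by
    have hs : (f ⁻¹ᵁ V).toSpecΓ ≫ A.ι V hV = (f ⁻¹ᵁ V).ι ≫ toSpec f := (ι_toSpec f V hV).symm
    have h2 : ((f ⁻¹ᵁ V).toSpecΓ ≫ A.ι V hV).appLE (A.π ⁻¹ᵁ V) ⊤ (by
          rw [hs, Scheme.Hom.comp_preimage, preimage_π, Scheme.Opens.ι_preimage_self]) =
        (A.ι V hV).appLE (A.π ⁻¹ᵁ V) ⊤ (A.top_le_preimage V hV) ≫ (f ⁻¹ᵁ V).toSpecΓ.appTop := by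
      have e : (f ⁻¹ᵁ V).toSpecΓ.appTop = (f ⁻¹ᵁ V).toSpecΓ.appLE ⊤ ⊤ le_rfl :=
        Scheme.Hom.app_eq_appLE (f ⁻¹ᵁ V).toSpecΓ
      rw [e, Scheme.Hom.appLE_comp_appLE]
    have h3 : ((f ⁻¹ᵁ V).ι ≫ toSpec f).appLE (A.π ⁻¹ᵁ V) ⊤ (by
          rw [Scheme.Hom.comp_preimage, preimage_π, Scheme.Opens.ι_preimage_self]) =
        (toSpec f).appLE (A.π ⁻¹ᵁ V) (f ⁻¹ᵁ V) hle ≫ (f ⁻¹ᵁ V).topIso.inv := by
      have : (f ⁻¹ᵁ V).topIso.inv = (f ⁻¹ᵁ V).ι.appLE (f ⁻¹ᵁ V) ⊤ (by rw [Scheme.Opens.ι_preimage_self]) := by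
        simp [Scheme.Opens.ι_appLE]
        rfl
      rw [this, Scheme.Hom.appLE_comp_appLE]
    rw [← h3]
    simp only [← hs] at *
    rw [h2]
    rw [Scheme.Opens.toSpecΓ_appTop]
    simp only [RelSpec.QCAlg.gammaAff, A, Category.assoc]
    rfl
  exact (cancel_mono _).1 key.symm

end Groth.Agent.QAff94
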